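import Groth.Agent.S1688
import Groth.Agent.S7643
import Groth.Agent.CurveDeg.Basic
import Groth.Agent.CohDual.SmoothEquidim
import Groth.Agent.SmoothWeil.Geom
import Groth.Agent.ModGroth.StalkTensor
import Groth.Agent.QCohLib.StalkRestrict

/-! Subsheaves, ranks and degrees of vector bundles on smooth proper integral curves. -/

set_option autoImplicit false
set_option backward.isDefEq.respectTransparency false
set_option linter.style.haveILetI false
universe u

open CategoryTheory CategoryTheory.Limits AlgebraicGeometry TopologicalSpace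

namespace Groth.Agent.CurveVB

theorem isIntegral_of_geometricallyConnected {k : Type u} [Field k] {X : Scheme.{u}}
    (f : X ⟶ Spec (CommRingCat.of k)) [Smooth f] [GeometricallyConnected f] : IsIntegral X := by
  haveI : ConnectedSpace X := GeometricallyConnected.connectedSpace_of_subsingleton (f := f)
  haveI : IsReduced X := UnitProd.isReduced_left_of_smooth f
  haveI : IsLocallyNoetherian X := LocallyOfFiniteType.isLocallyNoetherian f
  haveI : IrreducibleSpace X := SmoothWeil.irreducibleSpace_of_connected X fun x => by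
    haveI := CohDual.SmoothEquidim.isRegularLocalRing_stalk f x
    exact DepthLib.isDomain_of_isRegularLocalRing _
  exact isIntegral_of_irreducibleSpace_of_isReduced _

theorem finLocFree_of_rank {X : Scheme.{u}} {n : ℕ} {M : X.Modules} (h : FlatMod.IsFinLocFreeOfRank n M) :
    FlatMod.IsFinLocFree M := fun x => by
  obtain ⟨U, hx, e⟩ := h x
  exact ⟨U, _, hx, e⟩

theorem stalk_free {X : Scheme.{u}} {n : ℕ} {M : X.Modules} (h : FlatMod.IsFinLocFreeOfRank n M) (x : X) :
    Module.Free (X.presheaf.stalk x) (M.presheaf.stalk x) ∧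
      Module.Finite (X.presheaf.stalk x) (M.presheaf.stalk x) ∧
      Module.finrank (X.presheaf.stalk x) (M.presheaf.stalk x) = n := by
  obtain ⟨U, hx, ⟨i⟩⟩ := h x
  obtain ⟨b, hb⟩ := LocFreeAnn.exists_basis i
  have hB : ModGroth.LocBasis.IsBasis (O := X.sheaf) M b := fun W h => by convert! hb W h.le using 1
  let B : Module.Basis (Fin n) (X.presheaf.stalk x) (M.presheaf.stalk x) := Module.Basis.ofEquivFun
    (LinearEquiv.ofBijective _ (ModGroth.LocBasis.isStalkBasis_of_isBasis hB x hx)).symm
  exact ⟨Module.Free.of_basis B, Module.Finite.of_basis B, Groth.FlatDescent.FibreFlat.finrank_stalk_eq i hx⟩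

variable (k : Type u) [Field k] {X : Scheme.{u}} [X.Over (Spec (CommRingCat.of k))]
  [IsIntegral X] [IsProper (X ↘ (Spec (CommRingCat.of k)))] [Smooth (X ↘ (Spec (CommRingCat.of k)))]

theorem exists_rank_of_finLocFree {M : X.Modules} (h : FlatMod.IsFinLocFree M) :
    ∃ n, FlatMod.IsFinLocFreeOfRank n M := by
  obtain ⟨U₀, n, h₀, ⟨e₀⟩⟩ := h (genericPoint X)
  refine ⟨n, (Groth.FlatDescent.FibreFlat.isFinLocFreeOfRank_iff n).2 ⟨h, fun x => ?_⟩⟩
  obtain ⟨U, m, hx, ⟨e⟩⟩ := h x
  have hg : genericPoint X ∈ U := (genericPoint_specializes x).mem_open U.2 hx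
  rw [Groth.FlatDescent.FibreFlat.finrank_stalk_eq e hx, ← Groth.FlatDescent.FibreFlat.finrank_stalk_eq e hg,
    Groth.FlatDescent.FibreFlat.finrank_stalk_eq e₀ h₀]

include k in
/-- Coherent subsheaves of vector bundles are vector bundles. -/
theorem exists_rank_sub (hdim : topologicalKrullDim X = 1) {K E : X.Modules} (hK : Coh.IsCoh K)
    {r : ℕ} (hE : FlatMod.IsFinLocFreeOfRank r E) (i : K ⟶ E) [Mono i] :
    ∃ q, q ≤ r ∧ FlatMod.IsFinLocFreeOfRank q K := by
  haveI : IsLocallyNoetherian X := LocallyOfFiniteType.isLocallyNoetherian (X ↘ Spec (CommRingCat.of k))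
  have hinj : ∀ x : X, Function.Injective (Algz.stalkMapₗ i x) :=
    fun x => (QCohLib.mono_iff_stalk_injective i).1 inferInstance x
  have htf : ∀ x : X, NoZeroSMulDivisors (X.presheaf.stalk x) (K.presheaf.stalk x) := fun x => by
    obtain ⟨hf, -, -⟩ := stalk_free hE x
    refine ⟨fun {c m} hcm => ?_⟩
    have : c • Algz.stalkMapₗ i x m = 0 := by rw [← map_smul, hcm, map_zero]
    exact (smul_eq_zero.mp this).imp id fun h => hinj x (h.trans (map_zero _).symm)
  have hlf := (S1688.result X (fun x => CohDual.SmoothEquidim.isRegularLocalRing_stalk (X ↘ Spec (CommRingCat.of k)) x)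
    hdim.le K hK).1 htf
  obtain ⟨q, hq⟩ := exists_rank_of_finLocFree hlf
  obtain ⟨x⟩ : Nonempty X := inferInstance
  obtain ⟨-, h1, h2⟩ := stalk_free hE x
  obtain ⟨-, -, h3⟩ := stalk_free hq x
  refine ⟨q, ?_, hq⟩
  rw [← h2, ← h3]
  exact LinearMap.finrank_le_finrank_of_injective (hinj x)

omit [Smooth (X ↘ Spec (CommRingCat.of k))] [IsProper (X ↘ Spec (CommRingCat.of k))] [X.Over (Spec (CommRingCat.of k))] in
/-- Ranks add in short exact sequences. -/
theorem rank_add (S : ShortComplex X.Modules) (hS : S.ShortExact) {n₁ n₂ n₃ : ℕ}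
    (h₁ : FlatMod.IsFinLocFreeOfRank n₁ S.X₁) (h₂ : FlatMod.IsFinLocFreeOfRank n₂ S.X₂)
    (h₃ : FlatMod.IsFinLocFreeOfRank n₃ S.X₃) : n₂ = n₁ + n₃ := by
  obtain ⟨x⟩ : Nonempty X := inferInstance
  haveI : (DerSch.stalkFunctor X x).PreservesHomology := ModGroth.Stalk.preservesHomology_stalk x
  haveI : PreservesFiniteLimits (DerSch.stalkFunctor X x) :=
    (DerSch.stalkFunctor X x).preservesFiniteLimits_of_preservesHomology
  haveI : PreservesFiniteColimits (DerSch.stalkFunctor X x) :=
    (DerSch.stalkFunctor X x).preservesFiniteColimits_of_preservesHomology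
  have hSx : (S.map (DerSch.stalkFunctor X x)).ShortExact := hS.map_of_exact _
  let f : S.X₁.presheaf.stalk x →ₗ[X.presheaf.stalk x] S.X₂.presheaf.stalk x := Algz.stalkMapₗ S.f x
  let g : S.X₂.presheaf.stalk x →ₗ[X.presheaf.stalk x] S.X₃.presheaf.stalk x := Algz.stalkMapₗ S.g x
  have hgf : Function.Exact f g := (ShortComplex.ShortExact.moduleCat_exact_iff_function_exact _).mp hSx.exact
  have hg : Function.Surjective g := (ModuleCat.epi_iff_surjective _).mp hSx.epi_g
  have hf : Function.Injective f := (ModuleCat.mono_iff_injective _).mp hSx.mono_f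
  obtain ⟨f1, g1, r₁⟩ := stalk_free h₁ x
  obtain ⟨-, -, r₂⟩ := stalk_free h₂ x
  obtain ⟨f3, g3, r₃⟩ := stalk_free h₃ x
  obtain ⟨e, -⟩ := hgf.splitSurjectiveEquiv hf ⟨_, (Module.projective_lifting_property g LinearMap.id hg).choose_spec⟩
  have hr := e.finrank_eq
  erw [Module.finrank_prod] at hr
  rw [← r₁, ← r₂, ← r₃]
  exact hr

omit [IsIntegral X] [Smooth (X ↘ Spec (CommRingCat.of k))] [IsProper (X ↘ Spec (CommRingCat.of k))] [X.Over (Spec (CommRingCat.of k))] in
theorem isZero_of_rank_zero [IsIntegral X] {M : X.Modules} (h : FlatMod.IsFinLocFreeOfRank 0 M) : IsZero M :=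
  QCohLib.isZero_of_subsingleton_stalk fun x => by
    obtain ⟨hf, hfin, hr⟩ := stalk_free h x
    exact Module.finrank_zero_iff.mp hr

/-- A morphism of vector bundles split into kernel and image. -/
theorem exists_split (hdim : topologicalKrullDim X = 1) {E F : X.Modules} {r s : ℕ}
    (hE : FlatMod.IsFinLocFreeOfRank r E) (hF : FlatMod.IsFinLocFreeOfRank s F) (f : E ⟶ F) :
    ∃ (K I : X.Modules) (q t : ℕ) (i : K ⟶ E) (p : E ⟶ I) (j : I ⟶ F), Mono i ∧ Mono j ∧ p ≫ j = f ∧ i ≫ f = 0 ∧
      FlatMod.IsFinLocFreeOfRank q K ∧ FlatMod.IsFinLocFreeOfRank t I ∧ r = q + t ∧ t ≤ s ∧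
      Curv2.deg k X E r = Curv2.deg k X K q + Curv2.deg k X I t ∧
      (q = 0 → Mono f) ∧ (t = 0 → f = 0) := by
  haveI : IsLocallyNoetherian X := LocallyOfFiniteType.isLocallyNoetherian (X ↘ Spec (CommRingCat.of k))
  have hcE := DCohPerf.isCoh_finLocFree (finLocFree_of_rank hE)
  have hcF := DCohPerf.isCoh_finLocFree (finLocFree_of_rank hF)
  have hcK : Coh.IsCoh (kernel f) := QCohLib.isCoh_kernel f hcE hcF.1
  have hcI : Coh.IsCoh (cokernel (kernel.ι f)) := QCohLib.isCoh_cokernel _ hcK.1 hcE
  haveI hj : Mono (cokernel.desc (kernel.ι f) f (kernel.condition f)) :=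
    inferInstanceAs (Mono (Abelian.factorThruCoimage f))
  obtain ⟨q, -, hq⟩ := exists_rank_sub k hdim hcK hE (kernel.ι f)
  obtain ⟨t, hts, ht⟩ := exists_rank_sub k hdim hcI hF (cokernel.desc (kernel.ι f) f (kernel.condition f))
  let S := ShortComplex.mk (kernel.ι f) (cokernel.π _) (cokernel.condition _)
  have hS : S.ShortExact := { exact := ShortComplex.exact_of_g_is_cokernel _ (cokernelIsCokernel _) }
  refine ⟨kernel f, cokernel (kernel.ι f), q, t, kernel.ι f, cokernel.π _, _, inferInstance, hj,
    cokernel.π_desc _ _ _, kernel.condition f, hq, ht, rank_add S hS hq hE ht, hts,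
    S7643.result k X hdim.le S hS q r t hq hE ht, fun h => ?_, fun h => ?_⟩
  · subst h
    exact Preadditive.mono_of_kernel_zero ((isZero_of_rank_zero hq).eq_of_src _ _)
  · subst h
    rw [← cokernel.π_desc (kernel.ι f) f (kernel.condition f), (isZero_of_rank_zero ht).eq_of_src
      (cokernel.desc (kernel.ι f) f (kernel.condition f)) 0, comp_zero]

/-- A monomorphism between bundles of equal rank. -/
theorem deg_le_of_mono (hdim : topologicalKrullDim X = 1) {E F : X.Modules} {r : ℕ}
    (hE : FlatMod.IsFinLocFreeOfRank r E) (hF : FlatMod.IsFinLocFreeOfRank r F) (f : E ⟶ F) [Mono f] :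
    Curv2.deg k X E r ≤ Curv2.deg k X F r ∧ (Curv2.deg k X E r = Curv2.deg k X F r → IsIso f) := by
  haveI : IsLocallyNoetherian X := LocallyOfFiniteType.isLocallyNoetherian (X ↘ Spec (CommRingCat.of k))
  have hcE := DCohPerf.isCoh_finLocFree (finLocFree_of_rank hE)
  have hcF := DCohPerf.isCoh_finLocFree (finLocFree_of_rank hF)
  have hQ := QCohLib.isCoh_cokernel f hcE.1 hcF
  have hcl := QCohLib.isClosed_support hQ.2
  have hne : genericPoint X ∉ CohB1.support (cokernel f) := by
    intro h
    refine (show ¬ Subsingleton ((cokernel f).presheaf.stalk (genericPoint X)) from h) ?_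
    haveI : (DerSch.stalkFunctor X (genericPoint X)).PreservesHomology := ModGroth.Stalk.preservesHomology_stalk _
    haveI : PreservesFiniteLimits (DerSch.stalkFunctor X (genericPoint X)) :=
      (DerSch.stalkFunctor X (genericPoint X)).preservesFiniteLimits_of_preservesHomology
    haveI : PreservesFiniteColimits (DerSch.stalkFunctor X (genericPoint X)) :=
      (DerSch.stalkFunctor X (genericPoint X)).preservesFiniteColimits_of_preservesHomology
    let T := ShortComplex.mk f (cokernel.π f) (cokernel.condition f)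
    have hT : T.ShortExact := { exact := ShortComplex.exact_of_g_is_cokernel _ (cokernelIsCokernel _) }
    have hTx := hT.map_of_exact (DerSch.stalkFunctor X (genericPoint X))
    let a : E.presheaf.stalk (genericPoint X) →ₗ[X.functionField] F.presheaf.stalk (genericPoint X) :=
      Algz.stalkMapₗ f (genericPoint X)
    let b : F.presheaf.stalk (genericPoint X) →ₗ[X.functionField] (cokernel f).presheaf.stalk (genericPoint X) :=
      Algz.stalkMapₗ (cokernel.π f) (genericPoint X)
    have hab : Function.Exact a b := (ShortComplex.ShortExact.moduleCat_exact_iff_function_exact _).mp hTx.exact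
    have hb : Function.Surjective b := (ModuleCat.epi_iff_surjective _).mp hTx.epi_g
    have ha : Function.Injective a := (ModuleCat.mono_iff_injective _).mp hTx.mono_f
    obtain ⟨-, e1, r1⟩ := stalk_free hE (genericPoint X)
    obtain ⟨-, e2, r2⟩ := stalk_free hF (genericPoint X)
    have hs : Function.Surjective a :=
      (LinearMap.injective_iff_surjective_of_finrank_eq_finrank (r1.trans r2.symm)).mp ha
    refine subsingleton_of_forall_eq 0 fun m => ?_
    obtain ⟨v, rfl⟩ := hb m
    obtain ⟨w, rfl⟩ := hs v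
    exact hab.apply_apply_eq_zero w
  have hd := CurveDeg.dim_compl_le_zero hdim.le (U := ⟨(CohB1.support (cokernel f))ᶜ, hcl.isOpen_compl⟩)
    ⟨genericPoint X, hne⟩ hcl (Set.disjoint_left.mpr fun y hy hy' => hy' hy)
  let S := ShortComplex.mk f (cokernel.π f) (cokernel.condition f)
  have hS : S.ShortExact := { exact := ShortComplex.exact_of_g_is_cokernel _ (cokernelIsCokernel _) }
  have he := HilbPoly.euler_additive (k := k) hS hcE hcF hQ
  dsimp only [S] at he
  have h0 := CurveDeg.euler_nonneg_of_dim_zero k hQ hd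
  refine ⟨by simp only [Curv2.deg]; linarith, fun heq => ?_⟩
  have hz : IsZero (cokernel f) := QCohLib.isZero_of_subsingleton_stalk fun x => by
    by_contra hx
    have hp := CurveDeg.euler_pos_of_dim_zero k hQ hd (x := x) hx
    simp only [Curv2.deg] at heq
    linarith
  haveI : Epi f := Abelian.epi_of_cokernel_π_eq_zero f (hz.eq_of_tgt _ _)
  exact isIso_of_mono_of_epi f

/-- A nonzero endomorphism of a stable bundle is an isomorphism. -/
theorem isIso_of_stable (hdim : topologicalKrullDim X = 1) {E : X.Modules} {r : ℕ}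
    (hE : FlatMod.IsFinLocFreeOfRank r E)
    (hst : ∀ (G : X.Modules) (s : ℕ) (i : G ⟶ E), Mono i → FlatMod.IsFinLocFreeOfRank s G → 0 < s → s < r →
      Curv2.deg k X G s * (r : ℤ) < Curv2.deg k X E r * (s : ℤ))
    (f : E ⟶ E) (hf : f ≠ 0) : IsIso f := by
  obtain ⟨K, I, q, t, i, p, j, hi, hj, -, -, hq, ht, hr, -, hdeg, hm, hz⟩ := exists_split k hdim hE hE f
  have ht0 : 0 < t := Nat.pos_of_ne_zero fun h => hf (hz h)
  rcases Nat.eq_zero_or_pos q with h0 | h0
  · haveI := hm h0
    exact (deg_le_of_mono k hdim hE hE f).2 rfl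
  · have h1 := hst K q i hi hq h0 (by omega)
    have h2 := hst I t j hj ht ht0 (by omega)
    rw [hdeg] at h1 h2
    rw [hr] at h1 h2
    push_cast at h1 h2
    linarith

end Groth.Agent.CurveVB
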