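import Groth.Agent.CurveVB.Basic
import Groth.Agent.HilbPoly.Tensor

/-! Twisted endomorphisms of bundles on curves. -/

set_option autoImplicit false
set_option backward.isDefEq.respectTransparency false
set_option linter.style.haveILetI false
universe u

open CategoryTheory CategoryTheory.Limits AlgebraicGeometry TopologicalSpace Opposite

namespace Groth.Agent.CurveVB

open InvBasic ProjUniv InvPow

variable (k : Type u) [Field k] {X : Scheme.{u}} [X.Over (Spec (CommRingCat.of k))]
  [IsIntegral X] [IsProper (X ↘ (Spec (CommRingCat.of k)))] [Smooth (X ↘ (Spec (CommRingCat.of k)))]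

include k in
theorem exists_rank_tensor (hdim : topologicalKrullDim X = 1) {M L : X.Modules} {n : ℕ}
    (hM : FlatMod.IsFinLocFreeOfRank n M) (hL : PicF.IsInvertible L) :
    ∃ q, FlatMod.IsFinLocFreeOfRank q (CohB1.tensorMod M L) := by
  haveI : IsLocallyNoetherian X := LocallyOfFiniteType.isLocallyNoetherian (X ↘ Spec (CommRingCat.of k))
  have htf : ∀ x : X, NoZeroSMulDivisors (X.presheaf.stalk x) ((CohB1.tensorMod M L).presheaf.stalk x) := fun x => by
    obtain ⟨hfree, -, -⟩ := stalk_free hM x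
    obtain ⟨V, hxV, ℓ, hℓ⟩ := exists_isBasis hL x
    refine ⟨fun {c y} hcy => ?_⟩
    obtain ⟨Uy, hxUy, t, rfl⟩ := (CohB1.tensorMod M L).presheaf.exists_germ_eq y
    obtain ⟨Uc, hxUc, r, rfl⟩ := X.presheaf.exists_germ_eq c
    let W₀ := Uy ⊓ V ⊓ Uc
    have h1 : W₀ ≤ Uy := inf_le_left.trans inf_le_left
    have h2 : W₀ ≤ V := inf_le_left.trans inf_le_right
    have h3 : W₀ ≤ Uc := inf_le_right
    have hx₀ : x ∈ W₀ := ⟨⟨hxUy, hxV⟩, hxUc⟩
    obtain ⟨m, hm⟩ := (HilbPoly.tmul_bij M hℓ h2).2 (res (CohB1.tensorMod M L) h1 t)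
    dsimp only at hm
    rw [← TopCat.Presheaf.germ_res_apply (CohB1.tensorMod M L).presheaf (homOfLE h1) x hx₀ t] at hcy ⊢
    rw [← TopCat.Presheaf.germ_res_apply X.presheaf (homOfLE h3) x hx₀ r] at hcy ⊢
    rw [← QCohLib.germ_smul] at hcy
    obtain ⟨W, hxW, i, i', e⟩ := (CohB1.tensorMod M L).presheaf.germ_eq x hx₀ hx₀ _ 0 (hcy.trans (map_zero _).symm)
    have hW : W ≤ W₀ := i.le
    rw [map_zero] at e
    have e' : res (CohB1.tensorMod M L) hW ((X.presheaf.map (homOfLE h3).op r) • res (CohB1.tensorMod M L) h1 t) = 0 := e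
    rw [← hm, res_smul, HilbPoly.res_tmul, ← ProjCoh.tmul_smul_left, res_res] at e'
    have e3 := (HilbPoly.tmul_bij M hℓ (hW.trans h2)).1 (e'.trans (ProjCoh.tmul_zero_left M L W _).symm)
    have e4 : X.presheaf.germ W₀ x hx₀ (X.presheaf.map (homOfLE h3).op r) • M.presheaf.germ W₀ x hx₀ m = 0 := by
      rw [← QCohLib.germ_smul, ← TopCat.Presheaf.germ_res_apply M.presheaf (homOfLE hW) x hxW]
      refine Eq.trans ?_ (map_zero (M.presheaf.germ W x hxW).hom)
      refine congrArg _ ((res_smul M hW _ _).trans e3)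
    rcases smul_eq_zero.mp e4 with h | h
    · exact Or.inl h
    right
    obtain ⟨W', hxW', j, j', e5⟩ := M.presheaf.germ_eq x hx₀ hx₀ m 0 (h.trans (map_zero _).symm)
    have hW' : W' ≤ W₀ := j.le
    rw [map_zero] at e5
    have e6 : res (CohB1.tensorMod M L) hW' (res (CohB1.tensorMod M L) h1 t) = 0 := by
      rw [← hm, HilbPoly.res_tmul, show res M hW' m = 0 from e5]
      exact ProjCoh.tmul_zero_left M L W' _
    rw [← TopCat.Presheaf.germ_res_apply (CohB1.tensorMod M L).presheaf (homOfLE hW') x hxW']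
    exact (congrArg _ e6).trans (map_zero _)
  exact exists_rank_of_finLocFree ((S1688.result X
    (fun x => CohDual.SmoothEquidim.isRegularLocalRing_stalk (X ↘ Spec (CommRingCat.of k)) x) hdim.le _
    (HilbPoly.isCoh_tensorMod (DCohPerf.isCoh_finLocFree (finLocFree_of_rank hM)) hL)).1 htf)

end Groth.Agent.CurveVB
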