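import Groth.Agent.CurveVB.Basic

/-! Preimages of subbundles of a quotient. -/

set_option autoImplicit false
set_option backward.isDefEq.respectTransparency false
set_option linter.style.haveILetI false
universe u

open CategoryTheory CategoryTheory.Limits AlgebraicGeometry

namespace Groth.Agent.CurveVB

variable (k : Type u) [Field k] {X : Scheme.{u}} [X.Over (Spec (CommRingCat.of k))]
  [IsIntegral X] [IsProper (X ↘ (Spec (CommRingCat.of k)))] [Smooth (X ↘ (Spec (CommRingCat.of k)))]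

theorem exists_preimage_seq (hdim : topologicalKrullDim X = 1) {T : ShortComplex X.Modules} (hT : T.ShortExact)
    {r₁ r s : ℕ} (h₁ : FlatMod.IsFinLocFreeOfRank r₁ T.X₁) (h₂ : FlatMod.IsFinLocFreeOfRank r T.X₂)
    (hC : Coh.IsCoh T.X₃) {Q : X.Modules} (hQ : FlatMod.IsFinLocFreeOfRank s Q) (j : Q ⟶ T.X₃) [Mono j] :
    ∃ (P : X.Modules) (l : P ⟶ T.X₂), Mono l ∧ FlatMod.IsFinLocFreeOfRank (r₁ + s) P ∧
      Curv2.deg k X P (r₁ + s) = Curv2.deg k X T.X₁ r₁ + Curv2.deg k X Q s ∧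
      (∃ w : P ⟶ Q, w ≫ j = l ≫ T.g) ∧
      ∃ hz : l ≫ T.g ≫ cokernel.π j = 0, (ShortComplex.mk l (T.g ≫ cokernel.π j) hz).ShortExact := by
  haveI : IsLocallyNoetherian X := LocallyOfFiniteType.isLocallyNoetherian (X ↘ Spec (CommRingCat.of k))
  haveI := hT.mono_f
  haveI := hT.epi_g
  have hcE := DCohPerf.isCoh_finLocFree (finLocFree_of_rank h₂)
  have hcQ := DCohPerf.isCoh_finLocFree (finLocFree_of_rank hQ)
  have hcK : Coh.IsCoh (kernel (T.g ≫ cokernel.π j)) :=
    QCohLib.isCoh_kernel _ hcE (QCohLib.isCoh_cokernel j hcQ.1 hC).1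
  obtain ⟨m, -, hm⟩ := exists_rank_sub k hdim hcK h₂ (kernel.ι (T.g ≫ cokernel.π j))
  let w : kernel (T.g ≫ cokernel.π j) ⟶ Q :=
    Abelian.monoLift j (kernel.ι (T.g ≫ cokernel.π j) ≫ T.g) (by rw [Category.assoc]; exact kernel.condition _)
  have hw : w ≫ j = kernel.ι (T.g ≫ cokernel.π j) ≫ T.g := Abelian.monoLift_comp _ _ _
  have hP : IsPullback w (kernel.ι (T.g ≫ cokernel.π j)) j T.g := by
    refine IsPullback.of_isLimit' ⟨hw⟩ (PullbackCone.IsLimit.mk _
      (fun c => kernel.lift _ c.snd (by rw [← Category.assoc, ← c.condition, Category.assoc, cokernel.condition, comp_zero]))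
      (fun c => ?_) (fun c => kernel.lift_ι _ _ _)
      (fun c e _ he => by rw [← cancel_mono (kernel.ι (T.g ≫ cokernel.π j)), he, kernel.lift_ι]))
    rw [← cancel_mono j, Category.assoc, hw, kernel.lift_ι_assoc, c.condition]
  haveI : Epi w := Abelian.epi_fst_of_isLimit _ _ hP.isLimit
  let f' : T.X₁ ⟶ kernel (T.g ≫ cokernel.π j) := kernel.lift _ T.f (by rw [T.zero_assoc, zero_comp])
  have hf' : f' ≫ kernel.ι (T.g ≫ cokernel.π j) = T.f := kernel.lift_ι _ _ _
  haveI : Mono f' := mono_of_mono_fac hf'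
  let U : ShortComplex X.Modules := ShortComplex.mk f' w
    (by rw [← cancel_mono j, Category.assoc, hw, ← Category.assoc, hf', T.zero, zero_comp])
  have hU : U.ShortExact :=
    { exact := ShortComplex.exact_of_f_is_kernel _ (KernelFork.IsLimit.ofι' f' U.zero fun {W} a ha =>
        ⟨hT.exact.lift (a ≫ kernel.ι (T.g ≫ cokernel.π j)) (by rw [Category.assoc, ← hw, ← Category.assoc, ha, zero_comp]),
          by
            rw [← cancel_mono (kernel.ι (T.g ≫ cokernel.π j)), Category.assoc, hf']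
            exact hT.exact.lift_f _ _⟩) }
  obtain rfl : m = r₁ + s := rank_add U hU h₁ hm hQ
  exact ⟨_, kernel.ι (T.g ≫ cokernel.π j), inferInstance, hm, S7643.result k X hdim.le U hU r₁ _ s h₁ hm hQ,
    ⟨w, hw⟩, kernel.condition _,
    { exact := ShortComplex.exact_of_f_is_kernel _ (kernelIsKernel _) }⟩

theorem exists_preimage (hdim : topologicalKrullDim X = 1) {T : ShortComplex X.Modules} (hT : T.ShortExact)
    {r₁ r s : ℕ} (h₁ : FlatMod.IsFinLocFreeOfRank r₁ T.X₁) (h₂ : FlatMod.IsFinLocFreeOfRank r T.X₂)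
    (hC : Coh.IsCoh T.X₃) {Q : X.Modules} (hQ : FlatMod.IsFinLocFreeOfRank s Q) (j : Q ⟶ T.X₃) [Mono j] :
    ∃ (P : X.Modules) (l : P ⟶ T.X₂), Mono l ∧ FlatMod.IsFinLocFreeOfRank (r₁ + s) P ∧
      Curv2.deg k X P (r₁ + s) = Curv2.deg k X T.X₁ r₁ + Curv2.deg k X Q s := by
  obtain ⟨P, l, hl, hP, hd, -⟩ := exists_preimage_seq k hdim hT h₁ h₂ hC hQ j
  exact ⟨P, l, hl, hP, hd⟩

end Groth.Agent.CurveVB
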