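import Groth.Agent.CurveVB.MaxSlope
import Groth.Agent.CurveVB.Preimage
import Groth.Agent.CurveVB.Higgs

/-! Maximal destabilising subbundles of twisted endomorphisms. -/

set_option autoImplicit false
set_option backward.isDefEq.respectTransparency false
set_option linter.style.haveILetI false
universe u

open CategoryTheory CategoryTheory.Limits AlgebraicGeometry

namespace Groth.Agent.CurveVB

variable (k : Type u) [Field k] {X : Scheme.{u}} [X.Over (Spec (CommRingCat.of k))]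
  [IsIntegral X] [IsProper (X ↘ (Spec (CommRingCat.of k)))] [Smooth (X ↘ (Spec (CommRingCat.of k)))]

/-- A submodule to which the twisted endomorphism restricts. -/
def IsInv {E L : X.Modules} (φ : E ⟶ CohB1.tensorMod E L) {G : X.Modules} (j : G ⟶ E) : Prop :=
  ∃ χ : G ⟶ CohB1.tensorMod G L, χ ≫ HilbPoly.tMap j L = j ≫ φ

omit [IsIntegral X] [IsProper (X ↘ (Spec (CommRingCat.of k)))] [Smooth (X ↘ (Spec (CommRingCat.of k)))]
  [X.Over (Spec (CommRingCat.of k))] in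
theorem isInv_of_shortExact {E L : X.Modules} (hL : PicF.IsInvertible L) (φ : E ⟶ CohB1.tensorMod E L)
    {A C : X.Modules} (a : A ⟶ E) (b : E ⟶ C) (hab : a ≫ b = 0) (hS : (ShortComplex.mk a b hab).ShortExact)
    (h : a ≫ φ ≫ HilbPoly.tMap b L = 0) : IsInv φ a := by
  have ht := HilbPoly.shortExact_tSC hS hL
  haveI := ht.mono_f
  exact ⟨ht.exact.lift (a ≫ φ) (by rw [Category.assoc]; exact h), ht.exact.lift_f _ _⟩

/-- An invariant subbundle of maximal slope, and maximal rank for that slope. -/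
theorem exists_maxSlope_inv (hdim : topologicalKrullDim X = 1) {r : ℕ} (hr : 0 < r) {E L : X.Modules}
    (hE : FlatMod.IsFinLocFreeOfRank r E) (φ : E ⟶ CohB1.tensorMod E L) :
    ∃ (E₁ : X.Modules) (r₁ : ℕ) (i₁ : E₁ ⟶ E), Mono i₁ ∧ IsInv φ i₁ ∧ 0 < r₁ ∧ FlatMod.IsFinLocFreeOfRank r₁ E₁ ∧
      (∀ (G : X.Modules) (n : ℕ) (j : G ⟶ E), Mono j → IsInv φ j → 0 < n → FlatMod.IsFinLocFreeOfRank n G →
        Curv2.deg k X G n * (r₁ : ℤ) ≤ Curv2.deg k X E₁ r₁ * (n : ℤ) ∧
        (Curv2.deg k X G n * (r₁ : ℤ) = Curv2.deg k X E₁ r₁ * (n : ℤ) → n ≤ r₁)) := by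
  classical
  haveI : IsLocallyNoetherian X := LocallyOfFiniteType.isLocallyNoetherian (X ↘ Spec (CommRingCat.of k))
  have hcoh : ∀ {M : X.Modules} {n : ℕ}, FlatMod.IsFinLocFreeOfRank n M → Coh.IsCoh M := fun h =>
    DCohPerf.isCoh_finLocFree (finLocFree_of_rank h)
  let P : ℕ → ℤ → Prop := fun n d => 0 < n ∧ ∃ (G : X.Modules) (j : G ⟶ E), Mono j ∧ IsInv φ j ∧
    FlatMod.IsFinLocFreeOfRank n G ∧ Curv2.deg k X G n = d
  have hle : ∀ n d, P n d → n ≤ r ∧ d ≤ (Module.finrank k (Coh.HH X E 0) : ℤ) + (r : ℤ) * |Curv2.euler k X (Coh.structureModule X)| := by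
    rintro n d ⟨-, G, j, hj, -, hG, rfl⟩
    obtain ⟨q, hq, hG'⟩ := exists_rank_sub k hdim (hcoh hG) hE j
    obtain ⟨x⟩ : Nonempty X := inferInstance
    have hnq : n = q := (stalk_free hG x).2.2.symm.trans (stalk_free hG' x).2.2
    refine ⟨hnq ▸ hq, ?_⟩
    have h := euler_le_h0_of_mono k hdim (hcoh hG) (hcoh hE) j
    have hn : (n : ℤ) ≤ r := by exact_mod_cast hnq ▸ hq
    simp only [Curv2.deg]
    nlinarith [mul_le_mul_of_nonneg_right hn (abs_nonneg (Curv2.euler k X (Coh.structureModule X))),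
      mul_le_mul_of_nonneg_left (neg_le_abs (Curv2.euler k X (Coh.structureModule X))) (Int.natCast_nonneg n)]
  let R := (Finset.range (r + 1)).filter fun n => ∃ d, P n d
  have hR : ∀ n, n ∈ R → ∃ d, P n d ∧ ∀ d', P n d' → d' ≤ d := fun n hn =>
    Int.exists_greatest_of_bdd ⟨_, fun d hd => (hle n d hd).2⟩ (Finset.mem_filter.1 hn).2
  choose! dmax hmax hub using hR
  have hid : IsInv φ (𝟙 E) := ⟨φ, by
    rw [Category.id_comp]
    change φ ≫ (CohB1.sheafifyMod X).map (MonoidalCategoryStruct.whiskerRight (C := CohB1.PMod X) (𝟙 E : E ⟶ E).val (CohB1.toPMod L)) = φ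
    erw [MonoidalCategory.id_whiskerRight, CategoryTheory.Functor.map_id, Category.comp_id]⟩
  have hrR : r ∈ R := Finset.mem_filter.2 ⟨Finset.self_mem_range_succ r, _, hr, E, 𝟙 E, inferInstance, hid, hE, rfl⟩
  obtain ⟨r₁, hr₁, hopt⟩ := R.exists_max_image (fun n => toLex (((dmax n : ℚ) / n), n)) ⟨r, hrR⟩
  obtain ⟨hpos, E₁, i₁, hi₁, hinv₁, hE₁, hd₁⟩ := hmax r₁ hr₁
  refine ⟨E₁, r₁, i₁, hi₁, hinv₁, hpos, hE₁, fun G n j hj hinv hn hG => ?_⟩
  rw [hd₁]
  have hP : P n (Curv2.deg k X G n) := ⟨hn, G, j, hj, hinv, hG, rfl⟩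
  have hnR : n ∈ R := Finset.mem_filter.2 ⟨Finset.mem_range_succ_iff.2 (hle _ _ hP).1, _, hP⟩
  have h1 : (Curv2.deg k X G n : ℚ) ≤ dmax n := by exact_mod_cast hub n hnR _ hP
  have hn' : (0 : ℚ) < n := by exact_mod_cast hn
  have hr' : (0 : ℚ) < r₁ := by exact_mod_cast hpos
  have h2 := Prod.Lex.le_iff.1 (hopt n hnR)
  simp only [ofLex_toLex] at h2
  have h3 : (dmax n : ℚ) / n ≤ (dmax r₁ : ℚ) / r₁ := h2.elim le_of_lt (fun h => h.1.le)
  rw [div_le_div_iff₀ hn' hr'] at h3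
  have h6 := mul_le_mul_of_nonneg_right h1 hr'.le
  have h4 : (Curv2.deg k X G n : ℚ) * r₁ ≤ (dmax r₁ : ℚ) * n := le_trans h6 h3
  refine ⟨by exact_mod_cast h4, fun heq => ?_⟩
  rcases h2 with h | h
  · rw [div_lt_div_iff₀ hn' hr'] at h
    have h5 : (Curv2.deg k X G n : ℚ) * r₁ = (dmax r₁ : ℚ) * n := by exact_mod_cast heq
    linarith
  · exact h.2

/-- The saturation of an invariant subbundle is invariant. -/
theorem exists_rank_cokernel_inv (hdim : topologicalKrullDim X = 1) {E₁ E L : X.Modules} {r₁ r : ℕ}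
    (hL : PicF.IsInvertible L) (φ : E ⟶ CohB1.tensorMod E L)
    (h₁ : FlatMod.IsFinLocFreeOfRank r₁ E₁) (hE : FlatMod.IsFinLocFreeOfRank r E) (i : E₁ ⟶ E) [Mono i] (hi : IsInv φ i)
    (hmax : ∀ (G : X.Modules) (j : G ⟶ E), Mono j → IsInv φ j → FlatMod.IsFinLocFreeOfRank r₁ G →
      Curv2.deg k X G r₁ ≤ Curv2.deg k X E₁ r₁) :
    ∃ n, FlatMod.IsFinLocFreeOfRank n (cokernel i) := by
  haveI : IsLocallyNoetherian X := LocallyOfFiniteType.isLocallyNoetherian (X ↘ Spec (CommRingCat.of k))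
  obtain ⟨F, n, p, hip, hp, hF, hrn, hd, heq⟩ := exists_saturation k hdim h₁ hE i
  have hcK := QCohLib.isCoh_kernel p (DCohPerf.isCoh_finLocFree (finLocFree_of_rank hE))
    (DCohPerf.isCoh_finLocFree (finLocFree_of_rank hF)).1
  obtain ⟨q, -, hq⟩ := exists_rank_sub k hdim hcK hE (kernel.ι p)
  have hS : (ShortComplex.mk (kernel.ι p) p (kernel.condition p)).ShortExact :=
    { exact := ShortComplex.exact_of_f_is_kernel _ (kernelIsKernel _) }
  have hr1 : r = q + n := rank_add _ hS hq hE hF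
  obtain rfl : q = r₁ := by omega
  obtain ⟨W, hW⟩ := exists_rank_tensor k hdim hF hL
  have hh : kernel.ι p ≫ φ ≫ HilbPoly.tMap p L = 0 := by
    obtain ⟨χ, hχ⟩ := hi
    have hl : kernel.lift p i hip ≫ kernel.ι p ≫ φ ≫ HilbPoly.tMap p L = 0 := by
      rw [kernel.lift_ι_assoc, ← Category.assoc i φ, ← hχ, Category.assoc, ← LimSh.tensorModMap_comp, hip,
        show LimSh.tensorModMap (0 : _ ⟶ _) L = 0 from HilbPoly.tMap_zero _ _ hL, comp_zero]
    generalize hgen : kernel.ι p ≫ φ ≫ HilbPoly.tMap p L = h at hl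
    haveI : Mono (kernel.lift p i hip) := mono_of_mono_fac (kernel.lift_ι p i hip)
    haveI : Mono (kernel.lift h (kernel.lift p i hip) hl) := mono_of_mono_fac (kernel.lift_ι h _ hl)
    have hck := QCohLib.isCoh_kernel h hcK (DCohPerf.isCoh_finLocFree (finLocFree_of_rank hW)).1
    obtain ⟨q₂, -, hq₂⟩ := exists_rank_sub k hdim hck hq (kernel.ι h)
    obtain ⟨q₃, h₃, hF₃⟩ := exists_rank_sub k hdim
      (DCohPerf.isCoh_finLocFree (finLocFree_of_rank h₁)) hq₂ (kernel.lift h (kernel.lift p i hip) hl)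
    obtain ⟨x⟩ : Nonempty X := inferInstance
    have e1 : q₃ = q := (stalk_free hF₃ x).2.2.symm.trans (stalk_free h₁ x).2.2
    have hS' : (ShortComplex.mk (kernel.ι h) (cokernel.π _) (cokernel.condition _)).ShortExact :=
      { exact := ShortComplex.exact_of_g_is_cokernel _ (cokernelIsCokernel _) }
    haveI : Mono (cokernel.desc (kernel.ι h) h (kernel.condition h)) :=
      inferInstanceAs (Mono (Abelian.factorThruCoimage h))
    obtain ⟨t, -, ht⟩ := exists_rank_sub k hdim (QCohLib.isCoh_cokernel _ hck.1 hcK) hW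
      (cokernel.desc (kernel.ι h) h (kernel.condition h))
    have hadd : q = q₂ + t := rank_add _ hS' hq₂ hq ht
    obtain rfl : t = 0 := by omega
    rw [← cokernel.π_desc (kernel.ι h) h (kernel.condition h),
      (isZero_of_rank_zero ht).eq_of_src (cokernel.desc (kernel.ι h) h (kernel.condition h)) 0, comp_zero]
  have h3 := hmax _ (kernel.ι p) inferInstance (isInv_of_shortExact hL φ _ p (kernel.condition p) hS hh) hq
  have h2 : Curv2.deg k X E r = Curv2.deg k X (kernel p) q + Curv2.deg k X F n :=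
    S7643.result k X hdim.le _ hS q r n hq hE hF
  have hT := heq (by linarith)
  let e : cokernel i ≅ F := (cokernelIsCokernel i).coconePointUniqueUpToIso hT.gIsCokernel
  exact ⟨n, fun x => by
    obtain ⟨U, hx, ⟨a⟩⟩ := hF x
    exact ⟨U, hx, ⟨(Scheme.Modules.restrictFunctor U.ι).mapIso e ≪≫ a⟩⟩⟩

/-- An endomorphism commuting with `φ` preserves the maximal destabilising invariant subbundle. -/
theorem comp_cokernel_eq_zero (hdim : topologicalKrullDim X = 1) {E₁ E L : X.Modules} {r₁ r : ℕ}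
    (hL : PicF.IsInvertible L) (φ : E ⟶ CohB1.tensorMod E L) (ψ : E ⟶ E) (hcomm : ψ ≫ φ = φ ≫ HilbPoly.tMap ψ L)
    (hr₁ : 0 < r₁) (h₁ : FlatMod.IsFinLocFreeOfRank r₁ E₁) (hE : FlatMod.IsFinLocFreeOfRank r E)
    (i : E₁ ⟶ E) [Mono i] (hi : IsInv φ i)
    (hopt : ∀ (G : X.Modules) (n : ℕ) (j : G ⟶ E), Mono j → IsInv φ j → 0 < n → FlatMod.IsFinLocFreeOfRank n G →
        Curv2.deg k X G n * (r₁ : ℤ) ≤ Curv2.deg k X E₁ r₁ * (n : ℤ) ∧
        (Curv2.deg k X G n * (r₁ : ℤ) = Curv2.deg k X E₁ r₁ * (n : ℤ) → n ≤ r₁)) :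
    i ≫ ψ ≫ cokernel.π i = 0 := by
  haveI : IsLocallyNoetherian X := LocallyOfFiniteType.isLocallyNoetherian (X ↘ Spec (CommRingCat.of k))
  obtain ⟨m, hC⟩ := exists_rank_cokernel_inv k hdim hL φ h₁ hE i hi fun G j hj hinv hG =>
    le_of_mul_le_mul_right (hopt G r₁ j hj hinv hr₁ hG).1 (by exact_mod_cast hr₁)
  obtain ⟨χ, hχ⟩ := hi
  have hz0 : ∀ {A B : X.Modules}, LimSh.tensorModMap (0 : A ⟶ B) L = 0 := fun {A B} => HilbPoly.tMap_zero _ _ hL
  let φC : cokernel i ⟶ CohB1.tensorMod (cokernel i) L := cokernel.desc i (φ ≫ HilbPoly.tMap (cokernel.π i) L)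
    (by rw [← Category.assoc, ← hχ, Category.assoc, ← LimSh.tensorModMap_comp, cokernel.condition, hz0, comp_zero])
  have hφC : cokernel.π i ≫ φC = φ ≫ HilbPoly.tMap (cokernel.π i) L := cokernel.π_desc _ _ _
  have hcomp : (i ≫ ψ ≫ cokernel.π i) ≫ φC = χ ≫ HilbPoly.tMap (i ≫ ψ ≫ cokernel.π i) L := by
    rw [Category.assoc, Category.assoc, hφC, ← Category.assoc ψ, hcomm, Category.assoc]
    change i ≫ φ ≫ LimSh.tensorModMap ψ L ≫ LimSh.tensorModMap (cokernel.π i) L = χ ≫ LimSh.tensorModMap (i ≫ ψ ≫ cokernel.π i) L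
    rw [LimSh.tensorModMap_comp, LimSh.tensorModMap_comp, ← Category.assoc i φ, ← hχ, Category.assoc]
  generalize hgen : i ≫ ψ ≫ cokernel.π i = h at hcomp ⊢
  have hcE₁ := DCohPerf.isCoh_finLocFree (finLocFree_of_rank h₁)
  have hcC := DCohPerf.isCoh_finLocFree (finLocFree_of_rank hC)
  have hcK := QCohLib.isCoh_kernel h hcE₁ hcC.1
  let j : cokernel (kernel.ι h) ⟶ cokernel i := cokernel.desc (kernel.ι h) h (kernel.condition h)
  haveI hj : Mono j := inferInstanceAs (Mono (Abelian.factorThruCoimage h))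
  have hjh : cokernel.π (kernel.ι h) ≫ j = h := cokernel.π_desc _ _ _
  obtain ⟨q, -, hq⟩ := exists_rank_sub k hdim hcK h₁ (kernel.ι h)
  obtain ⟨t, -, ht⟩ := exists_rank_sub k hdim (QCohLib.isCoh_cokernel _ hcK.1 hcE₁) hC j
  have hS : (ShortComplex.mk (kernel.ι h) (cokernel.π _) (cokernel.condition _)).ShortExact :=
    { exact := ShortComplex.exact_of_g_is_cokernel _ (cokernelIsCokernel _) }
  rcases Nat.eq_zero_or_pos t with ht0 | ht0
  · subst ht0
    rw [← hjh, (isZero_of_rank_zero ht).eq_of_src j 0, comp_zero]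
  exfalso
  have hrqt : r₁ = q + t := rank_add _ hS hq h₁ ht
  have hdeg : Curv2.deg k X E₁ r₁ = Curv2.deg k X (kernel h) q + Curv2.deg k X (cokernel (kernel.ι h)) t :=
    S7643.result k X hdim.le _ hS q r₁ t hq h₁ ht
  have hfj : HilbPoly.tMap (cokernel.π (kernel.ι h)) L ≫ HilbPoly.tMap j L = HilbPoly.tMap h L := by
    rw [← LimSh.tensorModMap_comp, hjh]
  have hK0 : kernel.ι h ≫ χ ≫ HilbPoly.tMap (cokernel.π (kernel.ι h)) L = 0 := by
    haveI := HilbPoly.mono_tMap j hL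
    rw [← cancel_mono (HilbPoly.tMap j L), zero_comp, Category.assoc, Category.assoc, hfj, ← hcomp,
      ← Category.assoc, kernel.condition, zero_comp]
  have b1 : Curv2.deg k X (kernel h) q * (r₁ : ℤ) ≤ Curv2.deg k X E₁ r₁ * (q : ℤ) := by
    rcases Nat.eq_zero_or_pos q with h0 | h0
    · subst h0
      rw [deg_zero k hdim hq]
      simp
    · obtain ⟨χK, hχK⟩ := isInv_of_shortExact hL χ _ _ _ hS hK0
      refine (hopt _ q (kernel.ι h ≫ i) inferInstance ⟨χK, ?_⟩ h0 hq).1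
      show χK ≫ LimSh.tensorModMap (kernel.ι h ≫ i) L = _
      rw [LimSh.tensorModMap_comp, ← Category.assoc, hχK, Category.assoc, hχ, Category.assoc]
  let χI := cokernel.desc (kernel.ι h) (χ ≫ HilbPoly.tMap (cokernel.π (kernel.ι h)) L) hK0
  have hχI : χI ≫ HilbPoly.tMap j L = j ≫ φC := by
    rw [← cancel_epi (cokernel.π (kernel.ι h)), cokernel.π_desc_assoc, Category.assoc, hfj, ← Category.assoc, hjh, hcomp]
  let T : ShortComplex X.Modules := ShortComplex.mk i (cokernel.π i) (cokernel.condition i)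
  have hT : T.ShortExact := { exact := ShortComplex.exact_of_g_is_cokernel _ (cokernelIsCokernel _) }
  obtain ⟨P, l, hl, hP, hdP, ⟨w, hw⟩, hz, hPS⟩ := exists_preimage_seq k hdim (T := T) hT h₁ hE hcC ht j
  have hlinv : IsInv φ l := isInv_of_shortExact hL φ l _ hz hPS (by
    change l ≫ φ ≫ LimSh.tensorModMap (cokernel.π i ≫ cokernel.π j) L = 0
    rw [LimSh.tensorModMap_comp, ← Category.assoc φ, ← hφC, Category.assoc, ← Category.assoc l, ← hw, Category.assoc,
      ← Category.assoc j, ← hχI, Category.assoc, ← LimSh.tensorModMap_comp, cokernel.condition, hz0, comp_zero, comp_zero])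
  obtain ⟨b2, b3⟩ := hopt P (r₁ + t) l hl hlinv (by omega) hP
  rw [hdP] at b2 b3
  dsimp only [T] at b2 b3
  have hne : (Curv2.deg k X E₁ r₁ + Curv2.deg k X (cokernel (kernel.ι h)) t) * (r₁ : ℤ) ≠
      Curv2.deg k X E₁ r₁ * ((r₁ + t : ℕ) : ℤ) := fun he => by have := b3 he; omega
  have b4 := lt_of_le_of_ne b2 hne
  have hd' := congrArg (· * (r₁ : ℤ)) hdeg
  have hr' : (r₁ : ℤ) = q + t := by exact_mod_cast hrqt
  push_cast at b4
  simp only [hr'] at hd' b1 b4
  linarith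

end Groth.Agent.CurveVB
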