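import Groth.Agent.CurveVB.Basic
import Groth.Agent.RefExtend.Basic

/-! Saturation of subbundles on curves, through the double dual of the quotient. -/

set_option autoImplicit false
set_option backward.isDefEq.respectTransparency false
set_option linter.style.haveILetI false
universe u

open CategoryTheory CategoryTheory.Limits AlgebraicGeometry TopologicalSpace

namespace Groth.Agent.CurveVB

variable (k : Type u) [Field k] {X : Scheme.{u}} [X.Over (Spec (CommRingCat.of k))]
  [IsIntegral X] [IsProper (X ↘ (Spec (CommRingCat.of k)))] [Smooth (X ↘ (Spec (CommRingCat.of k)))]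

include k in
/-- The largest locally free quotient of a coherent module: it agrees with it at the generic point. -/
theorem exists_locFree_quotient (hdim : topologicalKrullDim X = 1) {Q : X.Modules} (hQ : Coh.IsCoh Q) :
    ∃ (F : X.Modules) (n : ℕ) (p : Q ⟶ F), Epi p ∧ FlatMod.IsFinLocFreeOfRank n F ∧
      Function.Bijective (Algz.stalkMapₗ p (genericPoint X)) := by
  haveI : IsLocallyNoetherian X := LocallyOfFiniteType.isLocallyNoetherian (X ↘ Spec (CommRingCat.of k))
  have hD : Coh.IsCoh (RefHull.dual Q) := RefHullLib.isCoh_homSh hQ DepthSections.isCoh_structureModule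
  have hDD : Coh.IsCoh (RefHull.ddual Q) := RefHullLib.isCoh_homSh hD DepthSections.isCoh_structureModule
  have hev := fun x => Ref1.evalStalk_bijective (RefHull.dual Q) (Coh.structureModule X) (QCohLib.isCoh_iff_isFP.mp hD) x
  have hdom : ∀ x : X, IsDomain (X.presheaf.stalk x) := fun x => inferInstance
  have htf : ∀ x : X, NoZeroSMulDivisors (X.presheaf.stalk x) ((RefHull.ddual Q).presheaf.stalk x) := fun x => by
    haveI := hdom x
    refine ⟨fun {c θ} hcθ => ?_⟩
    by_cases hc : c = 0
    · exact Or.inl hc
    right
    apply (hev x).1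
    rw [map_zero]
    refine LinearMap.ext fun w => (RefHullLib.unitEquiv (X := X) x).symm.injective ?_
    rw [LinearMap.zero_apply, map_zero]
    have h := congrArg (fun φ => (RefHullLib.unitEquiv (X := X) x).symm (φ w))
      ((map_smul (RefHull.evalStalk (RefHull.dual Q) (Coh.structureModule X) x) c θ).symm.trans
        ((congrArg _ hcθ).trans (map_zero _)))
    simp only [LinearMap.smul_apply, map_smul, LinearMap.zero_apply, map_zero] at h
    exact (smul_eq_zero.mp h).resolve_left hc
  have hreg := fun x : X => CohDual.SmoothEquidim.isRegularLocalRing_stalk (X ↘ Spec (CommRingCat.of k)) x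
  have hlf := (S1688.result X hreg hdim.le _ hDD).1 htf
  obtain ⟨n, hn⟩ := exists_rank_of_finLocFree hlf
  have hsurj : ∀ x, Function.Surjective (QCohLib.stalkHom (RefHull.bidualMap Q) x) := fun x θ => by
    haveI := hdom x
    haveI := hreg x
    haveI : IsPrincipalIdealRing (X.presheaf.stalk x) := by
      by_cases hf : IsField (X.presheaf.stalk x)
      · let _ := hf.toField
        refine ⟨fun I => ?_⟩
        rcases Ideal.eq_bot_or_top I with rfl | rfl
        · exact bot_isPrincipal
        · exact top_isPrincipal
      · haveI := SmoothDense.isDiscreteValuationRing_of_regular (X.presheaf.stalk x)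
          ((SmoothDense.ringKrullDim_stalk_le x).trans hdim.le) hf
        infer_instance
    obtain ⟨v, hv⟩ := RefExtend.bidualAt_surjective hQ x
      (RefHull.evalStalk (RefHull.dual Q) (Coh.structureModule X) x θ)
    exact ⟨v, (hev x).1 (by rw [RefHullLib.evalStalk_stalkHom_bidualMap, hv])⟩
  refine ⟨RefHull.ddual Q, n, RefHull.bidualMap Q, (QCohLib.epi_iff_stalk_surjective _).2 hsurj, hn,
    fun a b hab => RefExtend.bidualAt_injective_generic hQ ?_, hsurj _⟩
  rw [← RefHullLib.evalStalk_stalkHom_bidualMap, ← RefHullLib.evalStalk_stalkHom_bidualMap]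
  exact congrArg _ hab

/-- Every subbundle is contained in a saturated one of the same rank. -/
theorem exists_saturation (hdim : topologicalKrullDim X = 1) {G E : X.Modules} {r' r : ℕ}
    (hG : FlatMod.IsFinLocFreeOfRank r' G) (hE : FlatMod.IsFinLocFreeOfRank r E) (i : G ⟶ E) [Mono i] :
    ∃ (F : X.Modules) (n : ℕ) (p : E ⟶ F) (hip : i ≫ p = 0), Epi p ∧ FlatMod.IsFinLocFreeOfRank n F ∧ r = r' + n ∧
      Curv2.deg k X G r' + Curv2.deg k X F n ≤ Curv2.deg k X E r ∧
      (Curv2.deg k X G r' + Curv2.deg k X F n = Curv2.deg k X E r → (ShortComplex.mk i p hip).ShortExact) := by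
  haveI : IsLocallyNoetherian X := LocallyOfFiniteType.isLocallyNoetherian (X ↘ Spec (CommRingCat.of k))
  have hcE := DCohPerf.isCoh_finLocFree (finLocFree_of_rank hE)
  have hcG := DCohPerf.isCoh_finLocFree (finLocFree_of_rank hG)
  obtain ⟨F, n, q, hq, hF, hbij⟩ := exists_locFree_quotient k hdim (QCohLib.isCoh_cokernel i hcG.1 hcE)
  haveI : Epi (cokernel.π i ≫ q) := epi_comp _ _
  have hK := QCohLib.isCoh_kernel (cokernel.π i ≫ q) hcE (DCohPerf.isCoh_finLocFree (finLocFree_of_rank hF)).1
  obtain ⟨m, -, hm⟩ := exists_rank_sub k hdim hK hE (kernel.ι (cokernel.π i ≫ q))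
  let S := ShortComplex.mk (kernel.ι (cokernel.π i ≫ q)) (cokernel.π i ≫ q) (kernel.condition _)
  have hS : S.ShortExact := { exact := ShortComplex.exact_of_f_is_kernel _ (kernelIsKernel _) }
  have hip : i ≫ cokernel.π i ≫ q = 0 := by rw [cokernel.condition_assoc, zero_comp]
  let l : G ⟶ kernel (cokernel.π i ≫ q) := kernel.lift _ i hip
  haveI : Mono l := mono_of_mono_fac (kernel.lift_ι _ i hip)
  have hrn : r = r' + n := by
    let η := genericPoint X
    haveI : (DerSch.stalkFunctor X η).PreservesHomology := ModGroth.Stalk.preservesHomology_stalk _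
    haveI : PreservesFiniteLimits (DerSch.stalkFunctor X η) :=
      (DerSch.stalkFunctor X η).preservesFiniteLimits_of_preservesHomology
    haveI : PreservesFiniteColimits (DerSch.stalkFunctor X η) :=
      (DerSch.stalkFunctor X η).preservesFiniteColimits_of_preservesHomology
    let T := ShortComplex.mk i (cokernel.π i) (cokernel.condition i)
    have hT : T.ShortExact := { exact := ShortComplex.exact_of_g_is_cokernel _ (cokernelIsCokernel _) }
    have hTx := hT.map_of_exact (DerSch.stalkFunctor X η)
    let a : G.presheaf.stalk η →ₗ[X.functionField] E.presheaf.stalk η := Algz.stalkMapₗ i η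
    let b : E.presheaf.stalk η →ₗ[X.functionField] (cokernel i).presheaf.stalk η := Algz.stalkMapₗ (cokernel.π i) η
    have hab : Function.Exact a b := (ShortComplex.ShortExact.moduleCat_exact_iff_function_exact _).mp hTx.exact
    have hb : Function.Surjective b := (ModuleCat.epi_iff_surjective _).mp hTx.epi_g
    have ha : Function.Injective a := (ModuleCat.mono_iff_injective _).mp hTx.mono_f
    obtain ⟨-, e1, r1⟩ := stalk_free hG η
    obtain ⟨-, e2, r2⟩ := stalk_free hE η
    obtain ⟨-, e3, r3⟩ := stalk_free hF η
    have h := b.finrank_range_add_finrank_ker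
    have hker : LinearMap.ker b = LinearMap.range a := LinearMap.exact_iff.mp hab
    rw [hker, LinearMap.finrank_range_of_inj ha, LinearMap.range_eq_top.mpr hb, finrank_top] at h
    have h' := (LinearEquiv.ofBijective _ hbij).finrank_eq
    calc r = Module.finrank X.functionField (E.presheaf.stalk η) := r2.symm
      _ = Module.finrank X.functionField ((cokernel i).presheaf.stalk η) +
          Module.finrank X.functionField (G.presheaf.stalk η) := h.symm
      _ = n + r' := congrArg₂ (· + ·) (h'.trans r3) r1
      _ = r' + n := add_comm _ _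
  have hrm := rank_add S hS hm hE hF
  obtain rfl : m = r' := by omega
  obtain ⟨h1, h2⟩ := deg_le_of_mono k hdim hG hm l
  have hd := S7643.result k X hdim.le S hS m r n hm hE hF
  dsimp only [S] at hd
  refine ⟨F, n, cokernel.π i ≫ q, hip, inferInstance, hF, hrn, by linarith, fun heq => ?_⟩
  haveI := h2 (by linarith)
  exact ShortComplex.shortExact_of_iso (S₁ := S)
    (ShortComplex.isoMk (asIso l).symm (Iso.refl _) (Iso.refl _) (by simp [S, l]) (by simp [S])) hS

end Groth.Agent.CurveVB
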