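import Groth.Agent.CurveVB.Bound
import Groth.Agent.CurveVB.Saturation

/-! Subbundles of maximal slope and maximal rank. -/

set_option autoImplicit false
set_option backward.isDefEq.respectTransparency false
set_option linter.style.haveILetI false
universe u

open CategoryTheory CategoryTheory.Limits AlgebraicGeometry

namespace Groth.Agent.CurveVB

variable (k : Type u) [Field k] {X : Scheme.{u}} [X.Over (Spec (CommRingCat.of k))]
  [IsIntegral X] [IsProper (X ↘ (Spec (CommRingCat.of k)))] [Smooth (X ↘ (Spec (CommRingCat.of k)))]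

theorem exists_maxSlope (hdim : topologicalKrullDim X = 1) {r : ℕ} (hr : 0 < r) {E : X.Modules}
    (hE : FlatMod.IsFinLocFreeOfRank r E) :
    ∃ (E₁ : X.Modules) (r₁ : ℕ) (i₁ : E₁ ⟶ E), Mono i₁ ∧ 0 < r₁ ∧ FlatMod.IsFinLocFreeOfRank r₁ E₁ ∧
      (∀ (G : X.Modules) (r' : ℕ) (j : G ⟶ E), Mono j → 0 < r' → FlatMod.IsFinLocFreeOfRank r' G →
        Curv2.deg k X G r' * (r₁ : ℤ) ≤ Curv2.deg k X E₁ r₁ * (r' : ℤ)) ∧
      (∀ (G : X.Modules) (r' : ℕ) (j : G ⟶ E), Mono j → 0 < r' → FlatMod.IsFinLocFreeOfRank r' G →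
        Curv2.deg k X G r' * (r₁ : ℤ) = Curv2.deg k X E₁ r₁ * (r' : ℤ) → r' ≤ r₁) ∧
      (∀ (G : X.Modules) (r' : ℕ) (i : G ⟶ E₁), Mono i → 0 < r' → FlatMod.IsFinLocFreeOfRank r' G →
        Curv2.deg k X G r' * (r₁ : ℤ) ≤ Curv2.deg k X E₁ r₁ * (r' : ℤ)) := by
  classical
  haveI : IsLocallyNoetherian X := LocallyOfFiniteType.isLocallyNoetherian (X ↘ Spec (CommRingCat.of k))
  have hcoh : ∀ {M : X.Modules} {n : ℕ}, FlatMod.IsFinLocFreeOfRank n M → Coh.IsCoh M := fun h =>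
    DCohPerf.isCoh_finLocFree (finLocFree_of_rank h)
  let P : ℕ → ℤ → Prop := fun n d => 0 < n ∧ ∃ (G : X.Modules) (j : G ⟶ E), Mono j ∧ FlatMod.IsFinLocFreeOfRank n G ∧
    Curv2.deg k X G n = d
  have hle : ∀ n d, P n d → n ≤ r ∧ d ≤ (Module.finrank k (Coh.HH X E 0) : ℤ) + (r : ℤ) * |Curv2.euler k X (Coh.structureModule X)| := by
    rintro n d ⟨-, G, j, hj, hG, rfl⟩
    obtain ⟨q, hq, hG'⟩ := exists_rank_sub k hdim (hcoh hG) hE j
    obtain ⟨x⟩ : Nonempty X := inferInstance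
    have hnq : n = q := (stalk_free hG x).2.2.symm.trans (stalk_free hG' x).2.2
    refine ⟨hnq ▸ hq, ?_⟩
    have h := euler_le_h0_of_mono k hdim (hcoh hG) (hcoh hE) j
    have hn : (n : ℤ) ≤ r := by exact_mod_cast hnq ▸ hq
    simp only [Curv2.deg]
    nlinarith [mul_le_mul_of_nonneg_right hn (abs_nonneg (Curv2.euler k X (Coh.structureModule X))),
      mul_le_mul_of_nonneg_left (neg_le_abs (Curv2.euler k X (Coh.structureModule X))) (Int.natCast_nonneg n)]
  let R := (Finset.range (r + 1)).filter fun n => ∃ d, P n d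
  have hR : ∀ n, n ∈ R → ∃ d, P n d ∧ ∀ d', P n d' → d' ≤ d := fun n hn =>
    Int.exists_greatest_of_bdd ⟨_, fun d hd => (hle n d hd).2⟩ (Finset.mem_filter.1 hn).2
  choose! dmax hmax hub using hR
  have hrR : r ∈ R := Finset.mem_filter.2 ⟨Finset.self_mem_range_succ r, _, hr, E, 𝟙 E, inferInstance, hE, rfl⟩
  obtain ⟨r₁, hr₁, hopt⟩ := R.exists_max_image (fun n => toLex (((dmax n : ℚ) / n), n)) ⟨r, hrR⟩
  obtain ⟨hpos, E₁, i₁, hi₁, hE₁, hd₁⟩ := hmax r₁ hr₁
  have key : ∀ (G : X.Modules) (n : ℕ) (j : G ⟶ E), Mono j → 0 < n → FlatMod.IsFinLocFreeOfRank n G →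
      Curv2.deg k X G n * (r₁ : ℤ) ≤ dmax r₁ * (n : ℤ) ∧ (Curv2.deg k X G n * (r₁ : ℤ) = dmax r₁ * (n : ℤ) → n ≤ r₁) := by
    intro G n j hj hn hG
    have hP : P n (Curv2.deg k X G n) := ⟨hn, G, j, hj, hG, rfl⟩
    have hnR : n ∈ R := Finset.mem_filter.2 ⟨Finset.mem_range_succ_iff.2 (hle _ _ hP).1, _, hP⟩
    have h1 : (Curv2.deg k X G n : ℚ) ≤ dmax n := by exact_mod_cast hub n hnR _ hP
    have hn' : (0 : ℚ) < n := by exact_mod_cast hn
    have hr' : (0 : ℚ) < r₁ := by exact_mod_cast hpos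
    have h2 := Prod.Lex.le_iff.1 (hopt n hnR)
    simp only [ofLex_toLex] at h2
    have h3 : (dmax n : ℚ) / n ≤ (dmax r₁ : ℚ) / r₁ := h2.elim le_of_lt (fun h => h.1.le)
    rw [div_le_div_iff₀ hn' hr'] at h3
    have h4 : (Curv2.deg k X G n : ℚ) * r₁ ≤ (dmax r₁ : ℚ) * n := le_trans (mul_le_mul_of_nonneg_right h1 hr'.le) h3
    refine ⟨by exact_mod_cast h4, fun heq => ?_⟩
    rcases h2 with h | h
    · rw [div_lt_div_iff₀ hn' hr'] at h
      have h5 : (Curv2.deg k X G n : ℚ) * r₁ = (dmax r₁ : ℚ) * n := by exact_mod_cast heq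
      have h6 := mul_le_mul_of_nonneg_right h1 hr'.le
      linarith
    · exact h.2
  refine ⟨E₁, r₁, i₁, hi₁, hpos, hE₁, fun G n j hj hn hG => ?_, fun G n j hj hn hG => ?_, fun G n i hi hn hG => ?_⟩
  · rw [hd₁]; exact (key G n j hj hn hG).1
  · rw [hd₁]; exact (key G n j hj hn hG).2
  · rw [hd₁]; exact (key G n (i ≫ i₁) inferInstance hn hG).1

theorem deg_zero (hdim : topologicalKrullDim X = 1) {M : X.Modules} (h : FlatMod.IsFinLocFreeOfRank 0 M) :
    Curv2.deg k X M 0 = 0 := by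
  have hz := isZero_of_rank_zero h
  let U := ShortComplex.mk (0 : M ⟶ M) (0 : M ⟶ M) zero_comp
  haveI : Mono U.f := ⟨fun a b _ => hz.eq_of_tgt a b⟩
  haveI : Epi U.g := ⟨fun a b _ => hz.eq_of_src a b⟩
  have hU : U.ShortExact := { exact := U.exact_of_isZero_X₂ hz }
  have := S7643.result k X hdim.le U hU 0 0 0 h h h
  dsimp only [U] at this
  linarith

/-- The cokernel of a subbundle of maximal degree among those of its rank is a bundle. -/
theorem exists_rank_cokernel (hdim : topologicalKrullDim X = 1) {E₁ E : X.Modules} {r₁ r : ℕ}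
    (h₁ : FlatMod.IsFinLocFreeOfRank r₁ E₁) (hE : FlatMod.IsFinLocFreeOfRank r E) (i : E₁ ⟶ E) [Mono i]
    (hmax : ∀ (G : X.Modules) (j : G ⟶ E), Mono j → FlatMod.IsFinLocFreeOfRank r₁ G →
      Curv2.deg k X G r₁ ≤ Curv2.deg k X E₁ r₁) :
    ∃ n, r = r₁ + n ∧ FlatMod.IsFinLocFreeOfRank n (cokernel i) ∧
      Curv2.deg k X E r = Curv2.deg k X E₁ r₁ + Curv2.deg k X (cokernel i) n := by
  haveI : IsLocallyNoetherian X := LocallyOfFiniteType.isLocallyNoetherian (X ↘ Spec (CommRingCat.of k))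
  obtain ⟨F, n, p, hip, hp, hF, hrn, hd, heq⟩ := exists_saturation k hdim h₁ hE i
  have hK := QCohLib.isCoh_kernel p (DCohPerf.isCoh_finLocFree (finLocFree_of_rank hE))
    (DCohPerf.isCoh_finLocFree (finLocFree_of_rank hF)).1
  obtain ⟨q, -, hq⟩ := exists_rank_sub k hdim hK hE (kernel.ι p)
  have hS : (ShortComplex.mk (kernel.ι p) p (kernel.condition p)).ShortExact :=
    { exact := ShortComplex.exact_of_f_is_kernel _ (kernelIsKernel _) }
  have h1 := rank_add _ hS hq hE hF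
  skip
  obtain rfl : q = r₁ := by omega
  have h2 := S7643.result k X hdim.le _ hS q r n hq hE hF
  dsimp only at h2
  have h3 := hmax _ (kernel.ι p) inferInstance hq
  have hT := heq (by linarith)
  let e : cokernel i ≅ F := (cokernelIsCokernel i).coconePointUniqueUpToIso hT.gIsCokernel
  have hc : FlatMod.IsFinLocFreeOfRank n (cokernel i) := fun x => by
    obtain ⟨U, hx, ⟨a⟩⟩ := hF x
    exact ⟨U, hx, ⟨(Scheme.Modules.restrictFunctor U.ι).mapIso e ≪≫ a⟩⟩
  refine ⟨n, hrn, hc, ?_⟩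
  exact S7643.result k X hdim.le (ShortComplex.mk i (cokernel.π i) (cokernel.condition i))
    { exact := ShortComplex.exact_of_g_is_cokernel _ (cokernelIsCokernel _) } q r n h₁ hE hc

end Groth.Agent.CurveVB
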